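import Groth.Prelude.Def_CAlgX
import Mathlib

/-!
# Quasi-regular sequences generating the same ideal
-/

universe u

noncomputable section

namespace GrothLib.QReg26

open MvPolynomial Finset

variable {A : Type u} [CommRing A]

theorem mem_of_sum_mul_mem_sq {n : ℕ} {f : Fin n → A} (hf : CAlgX.IsQuasiRegular f) (a : Fin n → A)
    (h : ∑ i, a i * f i ∈ Ideal.span (Set.range f) ^ 2) (i : Fin n) : a i ∈ Ideal.span (Set.range f) := by
  classical
  let P : MvPolynomial (Fin n) A := ∑ j, C (a j) * X j
  have hP : P.IsHomogeneous 1 := IsHomogeneous.sum _ _ 1 fun j _ => isHomogeneous_C_mul_X (a j) j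
  have he : eval f P = ∑ j, a j * f j := by simp [P]
  have hc : P.coeff (Finsupp.single i 1) = a i := by
    simp [P, coeff_sum, coeff_C_mul, coeff_X', Finsupp.single_eq_single_iff]
  rw [← hc]
  exact hf 1 P hP (by rw [he]; exact h) _

theorem exists_matrix {n m : ℕ} {f : Fin n → A} {g : Fin m → A}
    (h : ∀ i, g i ∈ Ideal.span (Set.range f)) : ∃ M : Fin m → Fin n → A, ∀ i, ∑ j, M i j * f j = g i := by
  choose M hM using fun i => Submodule.mem_span_range_iff_exists_fun A |>.1 (h i)
  exact ⟨M, fun i => hM i⟩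

/-- A sequence of the same length generating the same ideal is quasi-regular. -/
theorem isQuasiRegular_of_span_eq {n : ℕ} (f f' : Fin n → A) (hf : CAlgX.IsQuasiRegular f)
    (h : Ideal.span (Set.range f') = Ideal.span (Set.range f)) : CAlgX.IsQuasiRegular f' := by
  classical
  set J := Ideal.span (Set.range f) with hJ
  obtain ⟨M, hM⟩ := exists_matrix (f := f) (g := f') fun i => by rw [← hJ, ← h]; exact Ideal.subset_span ⟨i, rfl⟩
  obtain ⟨N, hN⟩ := exists_matrix (f := f') (g := f) fun i => by rw [h]; exact Ideal.subset_span ⟨i, rfl⟩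
  let φ : A →+* A ⧸ J := Ideal.Quotient.mk J
  let M' : Matrix (Fin n) (Fin n) A := Matrix.of M
  let N' : Matrix (Fin n) (Fin n) A := Matrix.of N
  have h1 : M'.map φ * N'.map φ = 1 := by
    refine mul_eq_one_comm.1 ?_
    rw [← Matrix.map_mul]
    ext i l
    have hsum : ∑ l, ((N' * M') i l - (1 : Matrix (Fin n) (Fin n) A) i l) * f l = 0 := by
      simp only [sub_mul, sum_sub_distrib, Matrix.mul_apply, Finset.sum_mul]
      rw [Finset.sum_comm]
      simp only [mul_assoc, ← Finset.mul_sum, N', M', Matrix.of_apply, hM, hN]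
      simp [Matrix.one_apply]
    have := mem_of_sum_mul_mem_sq hf _ (by rw [hsum]; exact zero_mem _) l
    rw [Matrix.map_apply]
    show φ ((N' * M') i l) = _
    rw [show φ ((N' * M') i l) = φ ((1 : Matrix (Fin n) (Fin n) A) i l) from Ideal.Quotient.eq.2 this]
    rcases eq_or_ne i l with rfl | hne
    · simp
    · simp [hne]
  intro d P hP heval
  rw [h] at heval ⊢
  let g : Fin n → MvPolynomial (Fin n) A := fun i => ∑ j, C (M i j) * X j
  have hQ : (bind₁ g P).IsHomogeneous d := by
    have := hP.aeval g (n := 1) fun i => IsHomogeneous.sum _ _ 1 fun j _ => isHomogeneous_C_mul_X (M i j) j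
    rwa [one_mul] at this
  have hQe : eval f (bind₁ g P) = eval f' P := by
    show aeval f (bind₁ g P) = aeval f' P
    rw [aeval_bind₁]
    congr 1
    ext i
    simp [g, hM]
  have hQ0 : map φ (bind₁ g P) = 0 := by
    ext e
    rw [coeff_map, coeff_zero, Ideal.Quotient.eq_zero_iff_mem]
    exact hf d _ hQ (by rw [hQe]; exact heval) e
  rw [map_bind₁] at hQ0
  let g' : Fin n → MvPolynomial (Fin n) (A ⧸ J) := fun j => ∑ l, C ((N'.map φ) j l) * X l
  have hcomp : (fun i => bind₁ g' (map φ (g i))) = X := by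
    funext i
    simp only [g, g', map_sum, map_mul, map_C, map_X, bind₁_C_right, bind₁_X_right, Finset.mul_sum, ← mul_assoc]
    rw [Finset.sum_comm]
    have : ∀ l, ∑ j, C (φ (M i j)) * C (φ (N' j l)) =
        (C ((1 : Matrix (Fin n) (Fin n) (A ⧸ J)) i l) : MvPolynomial (Fin n) (A ⧸ J)) := fun l => by
      rw [← h1, Matrix.mul_apply, map_sum]
      exact Finset.sum_congr rfl fun j _ => (map_mul C _ _).symm
    calc _ = ∑ l, (∑ j, C (φ (M i j)) * C (φ (N' j l))) * X l := by
          simp [Finset.sum_mul]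
      _ = X i := by simp [this, Matrix.one_apply]
  have hP0 : map φ P = 0 := by
    have := congrArg (bind₁ g') hQ0
    rwa [bind₁_bind₁, map_zero, hcomp, bind₁_X_left, AlgHom.id_apply] at this
  intro e
  rw [← Ideal.Quotient.eq_zero_iff_mem]
  show φ (P.coeff e) = 0
  rw [← coeff_map, hP0, coeff_zero]

/-- The classes of a quasi-regular sequence generating `I` are a basis of `I/I²`. -/
theorem linearIndependent_toCotangent (I : Ideal A) {m : ℕ} (f : Fin m → I)
    (hf : CAlgX.IsQuasiRegular (fun i => (f i : A))) (hs : Ideal.span (Set.range fun i => (f i : A)) = I) :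
    LinearIndependent (A ⧸ I) (fun i => I.toCotangent (f i)) ∧
      Submodule.span (A ⧸ I) (Set.range fun i => I.toCotangent (f i)) = ⊤ := by
  refine ⟨Fintype.linearIndependent_iff.2 fun c hc i => ?_, ?_⟩
  · choose a ha using fun j => Ideal.Quotient.mk_surjective (c j)
    have h : I.toCotangent (∑ j, a j • f j) = 0 := by
      rw [← hc, map_sum]
      refine Finset.sum_congr rfl fun j _ => ?_
      rw [map_smul, ← ha j]
      rfl
    rw [Ideal.toCotangent_eq_zero] at h
    rw [← ha i, Ideal.Quotient.eq_zero_iff_mem]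
    have := mem_of_sum_mul_mem_sq hf a (by rw [hs]; simpa using h) i
    rwa [hs] at this
  · refine eq_top_iff.2 fun x _ => ?_
    obtain ⟨⟨y, hy⟩, rfl⟩ := I.toCotangent_surjective x
    obtain ⟨c, hc⟩ := (Submodule.mem_span_range_iff_exists_fun A).1 (show y ∈ Ideal.span (Set.range fun i => (f i : A)) by rw [hs]; exact hy)
    have : (⟨y, hy⟩ : I) = ∑ j, c j • f j := Subtype.ext (by simpa using hc.symm)
    rw [this, map_sum]
    refine sum_mem fun j _ => ?_
    rw [map_smul]
    have : c j • I.toCotangent (f j) = Ideal.Quotient.mk I (c j) • I.toCotangent (f j) := rfl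
    rw [this]
    exact Submodule.smul_mem _ _ (Submodule.subset_span ⟨j, rfl⟩)

/-- A cotangent basis of an ideal generated by a quasi-regular sequence is quasi-regular and generates. -/
theorem isQuasiRegular_of_cotangent_basis [IsLocalRing A] (I : Ideal A) (hI : I ≤ IsLocalRing.maximalIdeal A)
    {r : ℕ} (g : Fin r → A) (hg : CAlgX.IsQuasiRegular g) (hgI : Ideal.span (Set.range g) = I) {m : ℕ} (f : Fin m → I)
    (hli : LinearIndependent (A ⧸ I) (fun i => I.toCotangent (f i)))
    (hsp : Submodule.span (A ⧸ I) (Set.range fun i => I.toCotangent (f i)) = ⊤) :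
    CAlgX.IsQuasiRegular (fun i => (f i : A)) ∧ Ideal.span (Set.range fun i => (f i : A)) = I := by
  classical
  have hle : Ideal.span (Set.range fun i => (f i : A)) ≤ I := by
    rw [Ideal.span_le]; rintro _ ⟨i, rfl⟩; exact (f i).2
  have hspan : Ideal.span (Set.range fun i => (f i : A)) = I := by
    refine le_antisymm hle (Submodule.le_of_le_smul_of_le_jacobson_bot (I := IsLocalRing.maximalIdeal A) ?_
      (IsLocalRing.maximalIdeal_le_jacobson ⊥) fun y hy => ?_)
    · rw [← hgI]
      exact Submodule.fg_span (Set.finite_range g)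
    obtain ⟨c, hc⟩ := (Submodule.mem_span_range_iff_exists_fun (A ⧸ I)).1
      (show I.toCotangent ⟨y, hy⟩ ∈ Submodule.span (A ⧸ I) (Set.range fun i => I.toCotangent (f i)) by rw [hsp]; trivial)
    choose a ha using fun j => Ideal.Quotient.mk_surjective (c j)
    have h : I.toCotangent ⟨y, hy⟩ = I.toCotangent (∑ j, a j • f j) := by
      rw [← hc, map_sum]
      refine Finset.sum_congr rfl fun j _ => ?_
      rw [map_smul, ← ha j]
      rfl
    rw [Ideal.toCotangent_eq] at h
    rw [← sub_add_cancel y ((∑ j, a j • f j : I) : A)]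
    refine Submodule.add_mem _ (Submodule.mem_sup_right ?_) (Submodule.mem_sup_left ?_)
    · rw [smul_eq_mul]
      exact Ideal.mul_mono_left hI (sq I ▸ h)
    · simp only [AddSubmonoidClass.coe_finsetSum, Submodule.coe_smul, smul_eq_mul]
      exact sum_mem fun j _ => Ideal.mul_mem_left _ _ (Ideal.subset_span ⟨j, rfl⟩)
  let g₁ : Fin r → I := fun i => ⟨g i, hgI ▸ Ideal.subset_span ⟨i, rfl⟩⟩
  obtain ⟨hli', hsp'⟩ := linearIndependent_toCotangent I g₁ hg hgI
  haveI : Nontrivial (A ⧸ I) := Ideal.Quotient.nontrivial_iff.2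
    (fun h => (IsLocalRing.maximalIdeal.isMaximal A).ne_top (top_le_iff.1 (h ▸ hI)))
  have hcard : r = m := by
    simpa using Fintype.card_congr ((Module.Basis.mk hli' hsp'.ge).indexEquiv (Module.Basis.mk hli hsp.ge))
  subst hcard
  exact ⟨isQuasiRegular_of_span_eq g _ hg (hspan.trans hgI.symm), hspan⟩

end GrothLib.QReg26
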