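import Groth.Agent.Lib.LinearType
import Groth.Agent.Lib.RegLoc.QuasiRegular
import Mathlib

/-!
# Intersection of an ideal with powers of a sequence regular modulo it
-/

universe u

noncomputable section

namespace GrothLib.QReg26

open MvPolynomial RingTheory.Sequence

variable {A : Type u} [CommRing A] (J : Ideal A) {r : ℕ} (f : Fin r → A)

local notation "R" => Ideal.span (Set.range f)

variable (hf : IsWeaklyRegular (A ⧸ J) (List.ofFn f))

include hf

theorem inf_pow_le (n : ℕ) : J ⊓ R ^ n ≤ J * R ^ n ⊔ R ^ (n + 1) := by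
  rintro x ⟨hxJ, hxR⟩
  obtain ⟨F, hF, rfl⟩ := (Ideal.mem_span_pow_iff_exists_isHomogeneous f x).1 hxR
  let φ := Ideal.Quotient.mk J
  have hf' : IsWeaklyRegular (A ⧸ J) (List.ofFn (φ ∘ f)) := by
    rw [← List.map_ofFn]
    exact (isWeaklyRegular_map_algebraMap_iff (A ⧸ J) (A ⧸ J) (List.ofFn f)).2 hf
  have h0 : aeval (φ ∘ f) (F.map φ) = 0 := by
    show eval (φ ∘ f) (F.map φ) = 0
    rw [eval_map, ← eval₂_comp]
    exact Ideal.Quotient.eq_zero_iff_mem.2 hxJ
  have hc := GrothLib.LinearType.rel_le_map _ (GrothLib.LinearType.mem_rel _ hf' n _ (hF.map φ) h0)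
  have hcoeff : ∀ m, F.coeff m ∈ J ⊔ R := fun m => by
    have h := mem_map_C_iff.1 hc m
    rw [coeff_map, Set.range_comp, ← Ideal.map_span, ← Ideal.mem_comap,
      Ideal.comap_map_of_surjective φ Ideal.Quotient.mk_surjective, ← RingHom.ker_eq_comap_bot,
      Ideal.mk_ker, sup_comm] at h
    exact h
  have := GrothLib.RegLoc.eval_mem_mul_pow f hF hcoeff
  rwa [Ideal.sup_mul, ← pow_succ'] at this

theorem inf_pow_eq (n N : ℕ) (hnN : n ≤ N) : J ⊓ R ^ n = J * R ^ n ⊔ J ⊓ R ^ N := by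
  refine le_antisymm ?_ (sup_le (le_inf Ideal.mul_le_left Ideal.mul_le_right)
    (inf_le_inf_left J (Ideal.pow_le_pow_right hnN)))
  induction N, hnN using Nat.le_induction with
  | base => exact le_sup_right
  | succ m hm ih =>
    refine ih.trans (sup_le le_sup_left fun x hx => ?_)
    obtain ⟨a, ha, b, hb, rfl⟩ := Submodule.mem_sup.1 (inf_pow_le J f hf m hx)
    refine Submodule.add_mem_sup (Ideal.mul_mono_right (Ideal.pow_le_pow_right hm) ha) ⟨?_, hb⟩
    have : a ∈ J := Ideal.mul_le_left ha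
    simpa using sub_mem hx.1 this

omit hf in
theorem exists_inf_pow_le [IsNoetherianRing A] (n : ℕ) : ∃ N, n ≤ N ∧ J ⊓ R ^ N ≤ J * R ^ n := by
  obtain ⟨k, hk⟩ := Ideal.exists_pow_inf_eq_pow_smul R (M := A) (J : Submodule A A)
  refine ⟨n + k, Nat.le_add_right n k, fun x hx => ?_⟩
  have h := hk (n + k) (Nat.le_add_left k n)
  have hx' : x ∈ R ^ (n + k) • (⊤ : Submodule A A) ⊓ (J : Submodule A A) := by
    refine ⟨?_, hx.1⟩
    simpa [Ideal.smul_top_eq_map] using hx.2
  rw [h, Nat.add_sub_cancel] at hx'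
  have : x ∈ R ^ n * J := Submodule.smul_mono le_rfl inf_le_right hx'
  rwa [mul_comm] at this

end GrothLib.QReg26
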